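import Cfsg.Agent.BLK.DG.Defs

/-! Step 1 of the generic freeness of a permutation module (one moving element). -/

namespace CL.DG.PermB

open MvPolynomial Matrix

theorem tele {M : Type*} [Ring M] (t θ : M) (p : ℕ) (hp : 0 < p) (ht : t ^ p = 0) :
    Commute t (∑ j ∈ Finset.range p, t ^ j * θ * t ^ (p - 1 - j)) := by
  have h := Finset.sum_range_sub (fun j => t ^ j * θ * t ^ (p - j)) p
  simp only [Nat.sub_self, Nat.sub_zero, ht, zero_mul, mul_zero, sub_zero] at h
  rw [Commute, SemiconjBy, ← sub_eq_zero, Finset.mul_sum, Finset.sum_mul,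
    ← Finset.sum_sub_distrib, ← h]
  refine Finset.sum_congr rfl fun j hj => ?_
  have hj' := Finset.mem_range.1 hj
  have e1 : p - (j + 1) = p - 1 - j := by omega
  have e2 : p - j = p - 1 - j + 1 := by omega
  rw [e1, e2, pow_succ' t j, pow_succ t (p - 1 - j)]
  simp only [mul_assoc]

theorem on_ker {R Ω : Type*} [CommRing R] [Fintype Ω] [DecidableEq Ω] (t θ : Matrix Ω Ω R)
    (p : ℕ) (hp : 0 < p) (v : Ω → R) (hv : t *ᵥ v = 0) :
    (∑ j ∈ Finset.range p, t ^ j * θ * t ^ (p - 1 - j)) *ᵥ v = t ^ (p - 1) *ᵥ (θ *ᵥ v) := by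
  obtain ⟨q, rfl⟩ : ∃ q, p = q + 1 := ⟨p - 1, by omega⟩
  rw [Finset.sum_range_succ, add_mulVec, Matrix.sum_mulVec, Finset.sum_eq_zero, zero_add]
  · simp
  · intro j hj
    have hj' := Finset.mem_range.1 hj
    have e : q + 1 - 1 - j = (q - j - 1) + 1 := by omega
    rw [e, pow_succ, ← mul_assoc, ← mulVec_mulVec, hv, mulVec_zero]

theorem geom {F M : Type*} [Field F] [Ring M] [Algebra F M] (p : ℕ) [Fact p.Prime] [CharP F p]
    (c : M) : (c - 1) ^ (p - 1) = ∑ i ∈ Finset.range p, c ^ i := by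
  have hp : p.Prime := Fact.out
  have h : ((Polynomial.X : Polynomial F) - 1) ^ (p - 1) =
      ∑ i ∈ Finset.range p, Polynomial.X ^ i := by
    have h0 : (Polynomial.X : Polynomial F) - 1 ≠ 0 := by
      simpa using Polynomial.X_sub_C_ne_zero (1 : F)
    apply mul_right_cancel₀ h0
    rw [geom_sum_mul, ← pow_succ, Nat.sub_add_cancel hp.one_le, sub_pow_char, one_pow]
  have := congrArg (Polynomial.aeval c) h
  simpa using this

theorem count {F Ω : Type*} [Field F] [DecidableEq Ω] (p : ℕ) [Fact p.Prime] [CharP F p]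
    (σ : Equiv.Perm Ω) (hσ : σ ^ p = 1) :
    ∃ θ : Ω → F, ∀ ω, ∑ i ∈ Finset.range p, θ ((σ ^ i) ω) + (if σ ω = ω then 1 else 0) = 1 := by
  have hp : p.Prime := Fact.out
  let out : Ω → Ω := fun ω => (Quotient.mk (Equiv.Perm.SameCycle.setoid σ) ω).out
  have ho : ∀ ω, σ.SameCycle ω (out ω) := fun ω =>
    (Quotient.mk_out (s := Equiv.Perm.SameCycle.setoid σ) ω).symm
  have hoe : ∀ ω (i : ℕ), out ((σ ^ i) ω) = out ω := fun ω i => by
    have : Quotient.mk (Equiv.Perm.SameCycle.setoid σ) ((σ ^ i) ω) =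
        Quotient.mk (Equiv.Perm.SameCycle.setoid σ) ω :=
      Quotient.sound (Equiv.Perm.SameCycle.symm ⟨(i : ℤ), by simp⟩)
    simp only [out, this]
  refine ⟨fun ω => if ω = out ω then 1 else 0, fun ω => ?_⟩
  by_cases h : σ ω = ω
  · have : ∀ i : ℕ, (σ ^ i) ω = ω := fun i => Equiv.Perm.pow_apply_eq_self_of_apply_eq_self h i
    simp [this, h]
  · have hper : Function.minimalPeriod σ ω = p :=
      Function.minimalPeriod_eq_prime
        (by rw [Function.IsPeriodicPt, Function.IsFixedPt, ← Equiv.Perm.coe_pow, hσ]; rfl) h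
    obtain ⟨k, hk⟩ := ho ω
    have hz : (0 : ℤ) < p := by exact_mod_cast hp.pos
    have hk' : (σ ^ (k % p).toNat) ω = out ω := by
      rw [← hk, ← zpow_natCast, Int.toNat_of_nonneg (Int.emod_nonneg _ hz.ne')]
      rw [← zpow_eq_zpow_emod' k hσ]
    have hlt : (k % p).toNat < p := by
      have := Int.emod_lt_of_pos k hz
      omega
    rw [if_neg h, add_zero, Finset.sum_eq_single (k % p).toNat]
    · beta_reduce
      rw [hoe, if_pos hk']
    · intro i hi hne
      beta_reduce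
      rw [hoe, if_neg]
      intro he
      apply hne
      have hi' := Finset.mem_range.1 hi
      refine Function.iterate_injOn_Iio_minimalPeriod (f := σ) (x := ω) ?_ ?_ ?_
      · rw [hper]; exact hi'
      · rw [hper]; exact hlt
      · simp only [← Equiv.Perm.coe_pow]
        rw [he, hk']
    · intro hn
      exact absurd (Finset.mem_range.2 hlt) hn

theorem inj {R Ω : Type*} [CommRing R] [Fintype Ω] [DecidableEq Ω] (u D : Matrix Ω Ω R)
    (hc : Commute u D) (h : ∀ v, u *ᵥ v = 0 → D *ᵥ v = v) :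
    ∀ (k : ℕ) (v : Ω → R), u ^ k *ᵥ v = 0 → D *ᵥ v = 0 → v = 0 := by
  intro k
  induction k with
  | zero => intro v hv _; simpa using hv
  | succ k ih =>
    intro v hv hD
    have h1 : u *ᵥ v = 0 := ih _ (by rw [mulVec_mulVec, ← pow_succ, hv])
      (by rw [mulVec_mulVec, ← hc.eq, ← mulVec_mulVec, hD, mulVec_zero])
    rw [← h v h1, hD]

theorem T0_eq {F K Q Ω : Type*} [Field F] [CommRing K] [Algebra F K] [CommGroup Q] [Fintype Q]
    [Fintype Ω] [DecidableEq Ω] (y : Q → K) (s : Q →* Equiv.Perm Ω) (a : Ω → K) :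
    T0 y s a = tt y ((permMatrixHom (R := F)).comp s) *ᵥ a := by
  have e : ∀ σ : Equiv.Perm Ω, mp K (σ.permMatrix F) = σ.permMatrix K := fun σ => by
    ext i j
    by_cases h : σ i = j <;> simp [mp_apply, PEquiv.toMatrix_apply, h]
  ext ω
  rw [T0_apply, tt, Matrix.sum_mulVec, Finset.sum_apply]
  refine Finset.sum_congr rfl fun g _ => ?_
  rw [smul_mulVec, map_sub, map_one, sub_mulVec, one_mulVec, MonoidHom.comp_apply,
    permMatrixHom_apply, e, permMatrix_mulVec]
  simp

theorem T0_pow {F K Q Ω : Type*} [Field F] [CommRing K] [Algebra F K] [CommGroup Q] [Fintype Q]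
    [Fintype Ω] [DecidableEq Ω] (y : Q → K) (s : Q →* Equiv.Perm Ω) (k : ℕ) (a : Ω → K) :
    (T0 y s ^ k) a = tt y ((permMatrixHom (R := F)).comp s) ^ k *ᵥ a := by
  induction k with
  | zero => simp
  | succ k ih => rw [pow_succ', Module.End.mul_apply, ih, T0_eq (F := F), mulVec_mulVec,
      ← pow_succ']

theorem step1 {F Q Ω : Type*} [Field F] [CommGroup Q] [Fintype Q] [Fintype Ω] (p : ℕ)
    [Fact p.Prime] [CharP F p] (s : Q →* Equiv.Perm Ω) (hs : ∀ g, s g ^ p = 1) (g0 : Q)
    (a : Ω → PA F Q) (h0 : T0 (X : Q → PA F Q) s a = 0)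
    (hsup : ∀ ω, s g0 ω = ω → a ω = 0) :
    ∃ d : PA F Q, d ≠ 0 ∧ ∃ b, d • a = (T0 (X : Q → PA F Q) s ^ (p - 1)) b := by
  classical
  have hp : p.Prime := Fact.out
  set r : Q →* Matrix Ω Ω F := (permMatrixHom (R := F)).comp s with hr
  have hrp : ∀ g, r g ^ p = 1 := fun g => by
    rw [hr, MonoidHom.comp_apply, ← map_pow, hs, map_one]
  set σ : Equiv.Perm Ω := (s g0)⁻¹ with hσ
  have hσp : σ ^ p = 1 := by rw [hσ, inv_pow, hs, inv_one]
  obtain ⟨θ, hθ⟩ := count (F := F) p σ hσp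
  let ε : Ω → F := fun ω => if σ ω = ω then 1 else 0
  have hε : ∀ g ω, ε ((s g)⁻¹ ω) = ε ω := fun g ω => by
    have hc : σ ((s g)⁻¹ ω) = (s g)⁻¹ (σ ω) := by
      rw [hσ, ← Equiv.Perm.mul_apply, ← Equiv.Perm.mul_apply, ← map_inv, ← map_inv, ← map_mul,
        ← map_mul, mul_comm]
    simp only [ε, hc, EmbeddingLike.apply_eq_iff_eq]
  have hre : ∀ g, Commute (r g) (diagonal ε) := fun g => by
    ext i j
    rw [mul_diagonal, diagonal_mul, hr, MonoidHom.comp_apply, permMatrixHom_apply]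
    by_cases h : (s g)⁻¹ i = j
    · rw [← h, hε, mul_comm]
    · have : Equiv.Perm.permMatrix F (s g)⁻¹ i j = 0 := by
        generalize (s g)⁻¹ = τ at h
        simp [PEquiv.toMatrix_apply, h]
      rw [this, zero_mul, mul_zero]
  set t : Matrix Ω Ω (PA F Q) := tt (X : Q → PA F Q) r with ht
  have htp : t ^ p = 0 := tt_pow p _ hrp
  have hte : Commute t (mp (PA F Q) (diagonal ε)) := commute_tt _ hre
  have hθe : Commute (mp (PA F Q) (diagonal θ)) (mp (PA F Q) (diagonal ε)) :=
    (commute_diagonal θ ε).map _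
  set D : Matrix Ω Ω (PA F Q) :=
    ∑ j ∈ Finset.range p, t ^ j * mp (PA F Q) (diagonal θ) * t ^ (p - 1 - j) +
      mp (PA F Q) (diagonal ε) with hD
  have htD : Commute t D := (tele t _ p hp.pos htp).add_right hte
  have heD : Commute (mp (PA F Q) (diagonal ε)) D :=
    (Commute.sum_right _ _ _ fun j _ =>
      (((hte.symm.pow_right j).mul_right hθe.symm).mul_right (hte.symm.pow_right _))).add_right
      (Commute.refl _)
  let ev : PA F Q →+* F := MvPolynomial.eval (Pi.single g0 1)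
  have evm : ∀ M : Matrix Ω Ω F, ev.mapMatrix (mp (PA F Q) M) = M := fun M => by
    ext i j; simp [ev, mp_apply]
  have evs : ∀ (c : PA F Q) (M : Matrix Ω Ω (PA F Q)),
      ev.mapMatrix (c • M) = ev c • ev.mapMatrix M := fun c M => by
    ext i j; simp
  have evt : ev.mapMatrix t = σ.permMatrix F - 1 := by
    rw [ht, tt, map_sum, Finset.sum_eq_single g0]
    · rw [evs, evm]
      simp [ev, hr, hσ]
    · intro g _ hg
      rw [evs]
      simp [ev, hg]
    · simp
  have hdet : D.det ≠ 0 := by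
    intro h
    have h1 : (ev.mapMatrix D).det = 0 := by rw [← RingHom.map_det, h, map_zero]
    obtain ⟨v, hv, hv0⟩ := Matrix.exists_mulVec_eq_zero_iff.2 h1
    have hc : Commute (σ.permMatrix F - 1) (ev.mapMatrix D) := evt ▸ htD.map _
    refine hv (inj _ _ hc (fun w hw => ?_) p v ?_ hv0)
    · rw [hD, map_add, map_sum]
      simp only [map_mul, map_pow, evm, evt]
      rw [add_mulVec, on_ker _ _ p hp.pos w hw, geom (F := F), Matrix.sum_mulVec]
      have hw1 : ∀ ω, w (σ ω) = w ω := fun ω => by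
        have := congrFun hw ω
        rw [sub_mulVec, one_mulVec, permMatrix_mulVec] at this
        exact sub_eq_zero.1 this
      have hwi : ∀ (i : ℕ) ω, w ((σ ^ i) ω) = w ω := fun i => by
        induction i with
        | zero => simp
        | succ i ih => intro ω; rw [pow_succ', Equiv.Perm.mul_apply, hw1, ih]
      have hpi : ∀ i : ℕ, σ.permMatrix F ^ i = (σ ^ i).permMatrix F := fun i => by
        induction i with
        | zero => simp
        | succ i ih => rw [pow_succ, ih, pow_succ', permMatrix_mul]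
      ext ω
      simp only [hpi, permMatrix_mulVec, Pi.add_apply, Finset.sum_apply, Function.comp,
        mulVec_diagonal, hwi]
      rw [← Finset.sum_mul, ← add_mul, hθ, one_mul]
    · rw [← evt, ← map_pow, htp, map_zero, zero_mulVec]
  have hinj : ∀ v, D *ᵥ v = 0 → v = 0 := fun v hv => by
    by_contra hne
    exact hdet (Matrix.exists_mulVec_eq_zero_iff.1 ⟨v, hne, hv⟩)
  have hDa : D *ᵥ (D.adjugate *ᵥ a) = D.det • a := by
    rw [mulVec_mulVec, mul_adjugate, smul_mulVec, one_mulVec]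
  have hk : ∀ M, Commute M D → M *ᵥ a = 0 → M *ᵥ (D.adjugate *ᵥ a) = 0 := fun M hM hMa =>
    hinj _ (by rw [mulVec_mulVec, ← hM.eq, ← mulVec_mulVec, hDa, mulVec_smul, hMa, smul_zero])
  have h1 := hk t htD (by rw [ht, hr, ← T0_eq, h0])
  have h2 := hk _ heD (by
    ext1 ω
    have : mp (PA F Q) (diagonal ε) = diagonal fun ω => algebraMap F (PA F Q) (ε ω) := by
      ext1 i j
      rw [mp_apply, diagonal_apply, diagonal_apply]
      split_ifs <;> simp
    rw [this, mulVec_diagonal]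
    by_cases h : σ ω = ω
    · rw [hsup ω (by rw [hσ] at h; exact (Equiv.Perm.inv_eq_iff_eq.1 h).symm), mul_zero]; rfl
    · simp [ε, h])
  refine ⟨D.det, hdet, mp (PA F Q) (diagonal θ) *ᵥ (D.adjugate *ᵥ a), ?_⟩
  rw [← hDa, T0_pow (F := F), ← hr, ← ht]
  conv_lhs => rw [hD, add_mulVec, ← hD, h2, add_zero, on_ker _ _ p hp.pos _ h1]

end CL.DG.PermB
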